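import Mathlib.AlgebraicTopology.SimplicialSet.Coskeletal
import Mathlib.AlgebraicTopology.SimplicialSet.StdSimplex

/-!
# Standard simplices are 1-coskeletal
-/

set_option autoImplicit false
set_option backward.isDefEq.respectTransparency false
set_option backward.isDefEq.respectTransparency.types false

universe u

open CategoryTheory Simplicial SimplexCategory Truncated
open Opposite Category Functor Limits

namespace Groth.Agent.StdCosk

variable {n m : ℕ}

abbrev Arr (m : ℕ) := StructuredArrow (op ⦋m⦌) (SimplexCategory.Truncated.inclusion 1).op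

/-- The object of the comma category of a vertex. -/
abbrev vert (i : Fin (m + 1)) : Arr m :=
  StructuredArrow.mk (Y := op (⟨⦋0⦌, zero_le_one⟩ : SimplexCategory.Truncated 1)) (⦋0⦌.const ⦋m⦌ i).op

/-- The object of the comma category of an edge. -/
abbrev edge {i j : Fin (m + 1)} (h : i ≤ j) : Arr m :=
  StructuredArrow.mk (Y := op (⟨⦋1⦌, le_refl 1⟩ : SimplexCategory.Truncated 1)) (mkOfLe i j h).op

variable (s : Cone (StructuredArrow.proj (op ⦋m⦌) (SimplexCategory.Truncated.inclusion 1).op ⋙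
      (SimplexCategory.Truncated.inclusion 1).op ⋙ SSet.stdSimplex.{u}.obj ⦋n⦌)) (x : s.pt)

/-- The simplices given by a cone. -/
def val {k : ℕ} (hk : k ≤ 1) (g : ⦋k⦌ ⟶ ⦋m⦌) : Δ[n] _⦋k⦌ :=
  s.π.app (StructuredArrow.mk (Y := op (⟨⦋k⦌, hk⟩ : SimplexCategory.Truncated 1)) g.op) x

lemma val_apply {k : ℕ} (hk : k ≤ 1) (g : ⦋k⦌ ⟶ ⦋m⦌) (t : Fin (k + 1)) :
    val s x hk g t = val s x zero_le_one (⦋0⦌.const ⦋m⦌ (g.toOrderHom t)) 0 := by
  let φ : StructuredArrow.mk (Y := op (⟨⦋k⦌, hk⟩ : SimplexCategory.Truncated 1)) g.op ⟶ vert (g.toOrderHom t) :=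
    StructuredArrow.homMk (Hom.tr (⦋0⦌.const ⦋k⦌ t) zero_le_one hk).op
      (Quiver.Hom.unop_inj (by ext i; fin_cases i; rfl))
  exact congrArg (fun y : Δ[n] _⦋0⦌ => y 0) (ConcreteCategory.congr_hom (s.w φ) x)

/-- The vertices given by a cone. -/
def vtx (i : Fin (m + 1)) : Fin (n + 1) := val s x zero_le_one (⦋0⦌.const ⦋m⦌ i) 0

lemma vtx_mono : Monotone (vtx s x) := by
  intro i j h
  have h0 := val_apply s x le_rfl (mkOfLe i j h) 0
  have h1 := val_apply s x le_rfl (mkOfLe i j h) 1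
  refine le_of_eq_of_le h0.symm (le_of_le_of_eq ?_ h1)
  exact SSet.stdSimplex.monotone_apply (val s x le_rfl (mkOfLe i j h)) (Fin.zero_le 1)

theorem isPointwiseAt (n m : ℕ) :
    Nonempty ((SimplicialObject.Truncated.rightExtensionInclusion (SSet.stdSimplex.{u}.obj ⦋n⦌) 1).IsPointwiseRightKanExtensionAt ⟨⦋m⦌⟩) := by
  refine ⟨{ lift := fun s => ↾fun x => SSet.stdSimplex.objMk ⟨vtx s x, vtx_mono s x⟩, fac := ?_, uniq := ?_ }⟩
  · intro s j
    ext x
    obtain ⟨⟨i, hi⟩, ⟨g : _ ⟶ _⟩, rfl⟩ := j.mk_surjective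
    obtain ⟨k, rfl⟩ : ∃ k, ⦋k⦌ = i := ⟨_, i.mk_len⟩
    refine SSet.stdSimplex.ext _ _ fun t => ?_
    exact (val_apply s x hi g t).symm
  · intro s l hl
    ext x
    refine SSet.stdSimplex.ext _ _ fun t => ?_
    have := congrArg (fun y : Δ[n] _⦋0⦌ => y 0) (ConcreteCategory.congr_hom (hl (vert t)) x)
    exact this

theorem isCoskeletal (n : ℕ) : SimplicialObject.IsCoskeletal (SSet.stdSimplex.{u}.obj ⦋n⦌) 1 :=
  ⟨RightExtension.IsPointwiseRightKanExtension.isRightKanExtension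
    (E := SimplicialObject.Truncated.rightExtensionInclusion (SSet.stdSimplex.{u}.obj ⦋n⦌) 1)
    fun Δ => Classical.choice (isPointwiseAt n Δ.unop.len)⟩

end Groth.Agent.StdCosk
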